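import Mathlib
import Groth.Prelude.Def_W4c1hurwitzcptBd

/-!
# Submodules of `k⟦x⟧` over `k⟦x^p⟧` generated by elements of distinct valuations mod `p`
-/

set_option autoImplicit false
set_option linter.style.haveILetI false

universe u

namespace Groth.Agent.CrimpVal

open W4c1hurwitzcpt PowerSeries

variable {k : Type u} [Field k] {p : ℕ} [NeZero p]

theorem val_smul (a : PowerSeries k) (f : RootDisk p k) :
    RootDisk.val (a • f) = PowerSeries.expand p (NeZero.ne p) a * RootDisk.val f := by
  rw [Algebra.smul_def, map_mul]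
  rfl

theorem exists_sum (f : RootDisk p k) :
    f ∈ Submodule.span (PowerSeries k) (Set.range fun r : Fin p => RootDisk.val.symm ((X : PowerSeries k) ^ (r : ℕ))) := by
  rw [Submodule.mem_span_range_iff_exists_fun]
  refine ⟨fun r => PowerSeries.mk fun q => coeff (p * q + r) (RootDisk.val f), RootDisk.val.injective ?_⟩
  rw [map_sum]
  ext j
  rw [map_sum]
  simp only [val_smul, RingEquiv.apply_symm_apply]
  have hp : 0 < p := Nat.pos_of_ne_zero (NeZero.ne p)
  rw [Finset.sum_eq_single (⟨j % p, Nat.mod_lt _ hp⟩ : Fin p)]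
  · rw [coeff_mul_X_pow', if_pos (Nat.mod_le _ _)]
    have h1 : j - j % p = p * (j / p) := by
      have := Nat.div_add_mod j p; omega
    simp only [h1, coeff_expand_mul, coeff_mk]
    rw [Nat.div_add_mod]
  · intro r _ hr
    rw [coeff_mul_X_pow']
    split_ifs with h
    · refine coeff_expand_of_not_dvd p _ _ fun hd => hr (Fin.ext ?_)
      obtain ⟨c, hc⟩ := hd
      have : j = p * c + r := by omega
      simp only [this, Nat.mul_add_mod, Nat.mod_eq_of_lt r.2]
    · rfl
  · exact fun h => (h (Finset.mem_univ _)).elim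

theorem exists_cancel (f g : RootDisk p k) (e q : ℕ) (hg : (RootDisk.val g).order = e)
    (hf : ((e + p * q : ℕ) : ℕ∞) ≤ (RootDisk.val f).order) :
    ∃ a : PowerSeries k, ((e + p * q : ℕ) : ℕ∞) < (RootDisk.val (f - a • g)).order := by
  have hc : coeff e (RootDisk.val g) ≠ 0 := (order_eq_nat.mp hg).1
  have hlow : ∀ i, i < e → coeff i (RootDisk.val g) = 0 := (order_eq_nat.mp hg).2
  refine ⟨C (coeff (e + p * q) (RootDisk.val f) / coeff e (RootDisk.val g)) * X ^ q, ?_⟩
  refine lt_of_lt_of_le ?_ (nat_le_order _ (e + p * q + 1) fun i hi => ?_)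
  · exact_mod_cast Nat.lt_succ_self _
  rw [map_sub, val_smul, map_mul, expand_C, map_pow, expand_X, ← pow_mul, map_sub, mul_assoc, coeff_C_mul,
    coeff_X_pow_mul']
  rcases Nat.lt_or_ge i (e + p * q) with h | h
  · rw [coeff_of_lt_order i (lt_of_lt_of_le (by exact_mod_cast h) hf)]
    split_ifs with h'
    · rw [hlow (i - p * q) (by omega)]; simp
    · simp
  · obtain rfl : i = e + p * q := by omega
    rw [if_pos (by omega), Nat.add_sub_cancel, div_mul_cancel₀ _ hc, sub_self]

/-- A lattice in `k⟦x⟧` over `k⟦x^p⟧` is spanned by elements with orders in every class mod `p`. -/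
theorem exists_generators (M : Submodule (PowerSeries k) (RootDisk p k)) (hfg : M.FG) (N : ℕ)
    (hN : ∀ f, (X : PowerSeries k) ^ N • f ∈ M) :
    ∃ g : Fin p → RootDisk p k, (∀ r, (RootDisk.val (g r)).order.toNat % p = r ∧ (RootDisk.val (g r)).order ≠ ⊤) ∧
      Submodule.span (PowerSeries k) (Set.range g) = M := by
  classical
  have hp : 0 < p := Nat.pos_of_ne_zero (NeZero.ne p)
  have hbig : ∀ (n : ℕ) (f : RootDisk p k), ((p * n : ℕ) : ℕ∞) ≤ (RootDisk.val f).order →
      ∃ f' : RootDisk p k, f = (X : PowerSeries k) ^ n • f' := by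
    intro n f hf
    obtain ⟨h, hh⟩ : (X : PowerSeries k) ^ (p * n) ∣ RootDisk.val f :=
      X_pow_dvd_iff.mpr fun m hm => coeff_of_lt_order m (lt_of_lt_of_le (by exact_mod_cast hm) hf)
    exact ⟨RootDisk.val.symm h, RootDisk.val.injective (by
      rw [val_smul, RingEquiv.apply_symm_apply, map_pow, expand_X, ← pow_mul, hh])⟩
  have hex : ∀ r : Fin p, ∃ j : ℕ, j % p = r ∧ ∃ f ∈ M, (RootDisk.val f).order = j := by
    intro r
    refine ⟨p * N + r, by rw [Nat.mul_add_mod, Nat.mod_eq_of_lt r.2],
      _, hN (RootDisk.val.symm ((X : PowerSeries k) ^ (r : ℕ))), ?_⟩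
    rw [val_smul, RingEquiv.apply_symm_apply, map_pow, expand_X, ← pow_mul, ← pow_add, order_X_pow]
  choose g hgM hge using fun r => (Nat.find_spec (hex r)).2
  refine ⟨g, fun r => ⟨by rw [hge r, ENat.toNat_coe]; exact (Nat.find_spec (hex r)).1,
    by rw [hge r]; exact ENat.coe_ne_top _⟩, le_antisymm ?_ ?_⟩
  · rw [Submodule.span_le]
    rintro _ ⟨r, rfl⟩
    exact hgM r
  let W := Submodule.span (PowerSeries k) (Set.range g)
  have hgW : W ≤ M := Submodule.span_le.mpr (by rintro _ ⟨r, rfl⟩; exact hgM r)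
  have hred : ∀ n : ℕ, ∀ f ∈ M, ∃ w ∈ W, (n : ℕ∞) ≤ (RootDisk.val (f - w)).order := by
    intro n
    induction n with
    | zero => exact fun f _ => ⟨0, zero_mem _, bot_le⟩
    | succ n ih =>
      intro f hf
      obtain ⟨w, hw, hle⟩ := ih f hf
      rcases lt_or_eq_of_le hle with hlt | heq
      · exact ⟨w, hw, by push_cast; exact (ENat.add_one_le_iff (ENat.coe_ne_top n)).mpr hlt⟩
      let r : Fin p := ⟨n % p, Nat.mod_lt _ hp⟩
      have hmin : Nat.find (hex r) ≤ n := Nat.find_min' (hex r) ⟨rfl, f - w, sub_mem hf (hgW hw), heq.symm⟩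
      have he := (Nat.find_spec (hex r)).1
      obtain ⟨q, hq⟩ : p ∣ n - Nat.find (hex r) := (Nat.modEq_iff_dvd' hmin).mp he
      have hn : n = Nat.find (hex r) + p * q := by omega
      obtain ⟨a, ha⟩ := exists_cancel (f - w) (g r) (Nat.find (hex r)) q (hge r) (by rw [← hn]; exact hle)
      refine ⟨w + a • g r, add_mem hw (W.smul_mem a (Submodule.subset_span ⟨r, rfl⟩)), ?_⟩
      rw [← hn, sub_sub] at ha
      push_cast
      exact (ENat.add_one_le_iff (ENat.coe_ne_top n)).mpr ha
  refine Submodule.le_of_le_smul_of_le_jacobson_bot (I := Ideal.span {(X : PowerSeries k)}) hfg ?_ ?_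
  · rw [IsLocalRing.jacobson_eq_maximalIdeal ⊥ bot_ne_top, Ideal.span_le, Set.singleton_subset_iff]
    exact (IsLocalRing.mem_maximalIdeal _).mpr PowerSeries.X_irreducible.not_isUnit
  intro f hf
  obtain ⟨w, hw, hle⟩ := hred (p * (N + 1)) f hf
  obtain ⟨f', hf'⟩ := hbig (N + 1) _ hle
  rw [← add_sub_cancel w f, hf', pow_succ', mul_smul]
  exact Submodule.add_mem_sup hw (Submodule.smul_mem_smul (Ideal.mem_span_singleton_self _) (hN f'))

/-- A free submodule of full rank contains a power of `X` times everything. -/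
theorem exists_pow_smul_mem {F : Type u} [AddCommGroup F] [Module (PowerSeries k) F] {d : ℕ} (v : Fin d → F)
    (hv : Submodule.span (PowerSeries k) (Set.range v) = ⊤) (M : Submodule (PowerSeries k) F)
    (bM : Module.Basis (Fin d) (PowerSeries k) M) : ∃ N : ℕ, ∀ f, (X : PowerSeries k) ^ N • f ∈ M := by
  classical
  have hli : LinearIndependent (PowerSeries k) fun i => (bM i : F) :=
    bM.linearIndependent.map' M.subtype M.ker_subtype
  have hone : ∀ f : F, ∃ N : ℕ, (X : PowerSeries k) ^ N • f ∈ M := by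
    intro f
    let w : Option (Fin d) → F := fun o => o.elim f fun i => (bM i : F)
    have hdep : ¬ LinearIndependent (PowerSeries k) w := fun h => by
      have h1 := linearIndependent_le_span' w h (Set.range v) (by rw [hv]; exact Set.subset_univ _)
      have h2 := Fintype.card_range_le v
      rw [Cardinal.mk_fintype] at h1
      have h3 : Fintype.card (Option (Fin d)) ≤ Fintype.card (Set.range v) := by exact_mod_cast h1
      simp only [Fintype.card_option, Fintype.card_fin] at h2 h3
      omega
    rw [Fintype.linearIndependent_iff] at hdep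
    push Not at hdep
    obtain ⟨c, hc, j, hj⟩ := hdep
    rw [Fintype.sum_option] at hc
    have hcn : c none ≠ 0 := by
      intro h0
      simp only [h0, zero_smul, zero_add] at hc
      have := Fintype.linearIndependent_iff.mp hli (fun i => c (some i)) hc
      cases j with
      | none => exact hj h0
      | some i => exact hj (this i)
    have hmem : c none • f ∈ M := by
      rw [show c none • f = -∑ i, c (some i) • (bM i : F) from eq_neg_of_add_eq_zero_left hc]
      exact neg_mem (sum_mem fun i _ => M.smul_mem _ (bM i).2)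
    obtain ⟨N, u, hu⟩ := IsDiscreteValuationRing.eq_unit_mul_pow_irreducible hcn PowerSeries.X_irreducible
    refine ⟨N, ?_⟩
    rw [hu, mul_smul] at hmem
    simpa [← mul_smul, ← mul_assoc, ← Units.val_mul] using M.smul_mem (↑(u⁻¹) : PowerSeries k) hmem
  choose N hN using hone
  refine ⟨Finset.univ.sup fun i => N (v i), fun f => ?_⟩
  have hf : f ∈ Submodule.span (PowerSeries k) (Set.range v) := hv ▸ Submodule.mem_top
  induction hf using Submodule.span_induction with
  | mem x hx =>
    obtain ⟨i, rfl⟩ := hx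
    obtain ⟨e, he⟩ := Nat.exists_eq_add_of_le (Finset.le_sup (f := fun i => N (v i)) (Finset.mem_univ i))
    rw [he, add_comm, pow_add, mul_smul]
    exact M.smul_mem _ (hN (v i))
  | zero => simp
  | add x y _ _ hx hy => rw [smul_add]; exact add_mem hx hy
  | smul a x _ hx => rw [smul_comm]; exact M.smul_mem a hx

end Groth.Agent.CrimpVal
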